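import Mathlib
import Cfsg.Agent.Lib.Helper85.USim.Defs
import Cfsg.Agent.Lib.Helper40.Subf5

/-!
# USIM (S5982): package [6] `pExp`
-/

set_option autoImplicit false
open scoped MatrixGroups

namespace Cfsg.Agent.Lib.Helper66.USim

open Cfsg.Agent.Lib.Helper85.USim Cfsg.Agent.Lib.Helper40 Cfsg.Agent.Lib.Helper40.Subf5

universe u

/-- **[6]** -/
theorem pExp : PRank.{u} → PExp.{u} := by
  intro hrank F _ _ q₀ n r _ hF hn ω hω c hc e x g hx hg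
  classical
  have hω1 : ω ^ r = 1 := hω.pow_eq_one
  have hω0 : ω ≠ 0 := hω.ne_zero (Fact.out : r.Prime).ne_zero
  obtain ⟨κ, hκ, hr⟩ := hrank q₀ n hF x g hg
  obtain ⟨d, hd⟩ : ∃ d : Fin n → F, d = fun j => c * ω ^ (e j).val := ⟨_, rfl⟩
  have hcard : ∀ μ : F, Nat.card {j // d j = μ} = Nat.card {j // d j = κ * (μ ^ q₀)⁻¹} := by
    intro μ
    have h1 := Diag.rank_diagonal_sub d μ
    have h2 := Diag.rank_diagonal_sub d (κ * (μ ^ q₀)⁻¹)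
    have h3 := hr μ
    rw [hx, ← hd] at h3
    rw [Nat.card_eq_fintype_card, Nat.card_eq_fintype_card]
    omega
  have hfib : ∀ u : ZMod r,
      Nat.card {j // d j = c * ω ^ u.val} = Nat.card {j // e j = u} := by
    intro u
    apply Nat.card_congr
    apply Equiv.subtypeEquivRight
    intro j
    rw [hd]
    constructor
    · intro h1
      exact psi_inj hω (mul_left_cancel₀ hc h1)
    · intro h1
      simp only [h1]
  obtain ⟨j₁, hj₁⟩ : ∃ j₁ : Fin n,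
      c * ω ^ (e j₁).val = κ * ((c * ω ^ (e ⟨0, hn⟩).val) ^ q₀)⁻¹ := by
    have h1 := hcard (c * ω ^ (e ⟨0, hn⟩).val)
    have h2 : 0 < Nat.card {j // d j = c * ω ^ (e ⟨0, hn⟩).val} := by
      rw [Nat.card_pos_iff]
      exact ⟨⟨⟨⟨0, hn⟩, by rw [hd]⟩⟩, inferInstance⟩
    rw [h1, Nat.card_pos_iff] at h2
    obtain ⟨⟨⟨j₁, hj₁⟩⟩, -⟩ := h2
    rw [hd] at hj₁
    exact ⟨j₁, hj₁⟩
  refine ⟨e j₁ + (q₀ : ZMod r) * e ⟨0, hn⟩, fun u => ?_⟩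
  have hne0 : (c * ω ^ (e ⟨0, hn⟩).val) ^ q₀ ≠ 0 :=
    pow_ne_zero _ (mul_ne_zero hc (pow_ne_zero _ hω0))
  have hκeq : κ = c * ω ^ (e j₁).val * (c * ω ^ (e ⟨0, hn⟩).val) ^ q₀ := by
    rw [hj₁, mul_assoc, inv_mul_cancel₀ hne0, mul_one]
  have hkey : κ * ((c * ω ^ u.val) ^ q₀)⁻¹ =
      c * ω ^ (e j₁ + (q₀ : ZMod r) * e ⟨0, hn⟩ + (-(q₀ : ZMod r)) * u).val := by
    have h1 : e j₁ + (q₀ : ZMod r) * e ⟨0, hn⟩ + (-(q₀ : ZMod r)) * u =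
        e j₁ + (q₀ : ZMod r) * e ⟨0, hn⟩ - (q₀ : ZMod r) * u := by ring
    rw [h1, psi_sub hω1, psi_add hω1, psi_natCast_mul hω1, psi_natCast_mul hω1, hκeq, mul_pow,
      mul_pow, mul_inv]
    have hcq : c ^ q₀ ≠ 0 := pow_ne_zero _ hc
    field_simp
  rw [← hfib u, ← hfib (e j₁ + (q₀ : ZMod r) * e ⟨0, hn⟩ + (-(q₀ : ZMod r)) * u), ← hkey]
  exact hcard _

end Cfsg.Agent.Lib.Helper66.USim
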